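import Groth.Prelude.Def_CGrpSh2
import Groth.Prelude.Def_GmPts
import Groth.Agent.SGA3cLib.DiagPoints
import Groth.Agent.S13356
import Mathlib.RingTheory.Nilpotent.Exp
import Mathlib.Tactic

/-!
# Characters of the additive group and the double-duality map, on points

Translation of sections of the dual sheaves into functions on global sections.
-/

set_option autoImplicit false
set_option backward.isDefEq.respectTransparency.types false
universe u

open CategoryTheory AlgebraicGeometry Opposite MonObj Groth.Agent.SGA3cLib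

namespace Groth.Agent.GaBidual25

variable {X : Scheme.{u}}

local notation "Ga'" => CGrpSh2.Ga Scheme.fppfPrecoverage X
local notation "Gm'" => CGrpSh2.Gm Scheme.fppfPrecoverage X
local notation "J'" => QuotSh.J Scheme.fppfPrecoverage X

/-- Global functions. -/
abbrev Fn (T : Over X) : CommRingCat.{u} := Γ(T.left, ⊤)

/-- Pullback of global functions. -/
noncomputable def pb {T T' : Over X} (f : T' ⟶ T) : Fn T →+* Fn T' := f.left.appTop.hom

theorem pb_comp {T T' T'' : Over X} (g : T'' ⟶ T') (f : T' ⟶ T) : pb (g ≫ f) = (pb g).comp (pb f) := by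
  simp [pb]

theorem pb_id (T : Over X) : pb (𝟙 T) = RingHom.id _ := by
  simp [pb]

/-- Sections of the additive group are functions. -/
noncomputable def gaV {T : Over X} (x : (Ga').obj.obj (op T)) : Fn T := Red.gaFn x.down.toMul

/-- Sections of the multiplicative group are units. -/
noncomputable def gmV {T : Over X} (x : (Gm').obj.obj (op T)) : Fn T := Red.gmFn x.down.toMul

theorem gaV_add {T : Over X} (x y : (Ga').obj.obj (op T)) : gaV (x + y) = gaV x + gaV y :=
  gaFn_mul x.down.toMul y.down.toMul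

theorem gmV_add {T : Over X} (x y : (Gm').obj.obj (op T)) : gmV (x + y) = gmV x * gmV y :=
  SGA3cLib.gmFn_mul x.down.toMul y.down.toMul

theorem gaV_map {T T' : Over X} (f : T' ⟶ T) (x : (Ga').obj.obj (op T)) :
    gaV ((Ga').obj.map f.op x) = pb f (gaV x) :=
  gaFn_comp f x.down.toMul

theorem gmV_map {T T' : Over X} (f : T' ⟶ T) (x : (Gm').obj.obj (op T)) :
    gmV ((Gm').obj.map f.op x) = pb f (gmV x) :=
  SGA3cLib.gmFn_comp f x.down.toMul

theorem gaV_injective {T : Over X} : Function.Injective (gaV (T := T)) := fun x y h => by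
  apply ULift.ext
  exact Additive.toMul.injective (gaFn_injective h)

theorem gmV_injective {T : Over X} : Function.Injective (gmV (T := T)) := fun x y h => by
  apply ULift.ext
  exact Additive.toMul.injective (GmPts.gmFn_injective h)

/-- The section with given function. -/
noncomputable def gaMk {T : Over X} (r : Fn T) : (Ga').obj.obj (op T) :=
  ULift.up (Additive.ofMul (exists_gaFn r).choose)

theorem gaV_gaMk {T : Over X} (r : Fn T) : gaV (gaMk r) = r := (exists_gaFn r).choose_spec

theorem gaMk_gaV {T : Over X} (x : (Ga').obj.obj (op T)) : gaMk (gaV x) = x := gaV_injective (gaV_gaMk _)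

/-- The section with given unit. -/
noncomputable def gmMk {T : Over X} (r : (Fn T)ˣ) : (Gm').obj.obj (op T) :=
  ULift.up (Additive.ofMul (GmPts.ptOfUnit r))

theorem gmV_gmMk {T : Over X} (r : (Fn T)ˣ) : gmV (gmMk r) = r := GmPts.gmFn_ptOfUnit r

theorem gmV_zero {T : Over X} : gmV (0 : (Gm').obj.obj (op T)) = 1 := SGA3cLib.gmFn_one

theorem isUnit_gmV {T : Over X} (x : (Gm').obj.obj (op T)) : IsUnit (gmV x) := SGA3cLib.isUnit_gmFn _

/-- The value of a character at a function. -/
noncomputable def val {T : Over X} (φ : (Ga').over T ⟶ (Gm').over T) {V : Over X} (g : V ⟶ T) (r : Fn V) : Fn V :=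
  gmV (φ.hom.app (op (Over.mk g)) (gaMk r))

theorem val_add {T V : Over X} (φ : (Ga').over T ⟶ (Gm').over T) (g : V ⟶ T) (r r' : Fn V) :
    val φ g (r + r') = val φ g r * val φ g r' := by
  have e : gaMk (r + r') = gaMk r + gaMk r' := gaV_injective (by rw [gaV_add, gaV_gaMk, gaV_gaMk, gaV_gaMk])
  exact ((congrArg (fun x => gmV (φ.hom.app (op (Over.mk g)) x)) e).trans
    (congrArg gmV ((φ.hom.app (op (Over.mk g))).hom.map_add (gaMk r) (gaMk r')))).trans (gmV_add _ _)

theorem val_nat {T V W : Over X} (φ : (Ga').over T ⟶ (Gm').over T) (g : V ⟶ T) (h : W ⟶ V) (r : Fn V) :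
    val φ (h ≫ g) (pb h r) = pb h (val φ g r) := by
  have hn := ConcreteCategory.congr_hom
    (φ.hom.naturality (Over.homMk h rfl : Over.mk (h ≫ g) ⟶ Over.mk g).op) (gaMk r)
  have e : gaMk (pb h r) = (Ga').obj.map h.op (gaMk r) := gaV_injective (by rw [gaV_gaMk, gaV_map, gaV_gaMk])
  exact ((congrArg (fun x => gmV (φ.hom.app (op (Over.mk (h ≫ g))) x)) e).trans (congrArg gmV hn)).trans (gmV_map h _)

theorem isUnit_val {T V : Over X} (φ : (Ga').over T ⟶ (Gm').over T) (g : V ⟶ T) (r : Fn V) : IsUnit (val φ g r) :=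
  isUnit_gmV _

theorem val_zero {T V : Over X} (φ : (Ga').over T ⟶ (Gm').over T) (g : V ⟶ T) : val φ g 0 = 1 := by
  have h := val_add φ g 0 0
  rw [add_zero] at h
  exact ((isUnit_val φ g 0).mul_left_cancel ((_root_.mul_one _).trans h)).symm

theorem ext_val {T : Over X} {φ φ' : (Ga').over T ⟶ (Gm').over T}
    (h : ∀ (V : Over X) (g : V ⟶ T) (r : Fn V), val φ g r = val φ' g r) : φ = φ' := by
  refine Sheaf.hom_ext (NatTrans.ext (funext fun W => AddCommGrpCat.ext fun x => gmV_injective ?_))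
  have h1 := h (unop W).left (unop W).hom (gaV x)
  have e := gaMk_gaV (T := (unop W).left) x
  exact ((congrArg (fun y => gmV (φ.hom.app W y)) e).symm.trans h1).trans (congrArg (fun y => gmV (φ'.hom.app W y)) e)

theorem val_restrict {T T' V : Over X} (φ : (Ga').over T ⟶ (Gm').over T) (f : T' ⟶ T) (g : V ⟶ T') (r : Fn V) :
    val ((CGrpSh2.dualSh Scheme.fppfPrecoverage (Ga')).obj.map f.op φ) g r = val φ (g ≫ f) r := rfl

/-- The value of a section of the double dual at a character. -/
noncomputable def val₂ {T : Over X}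
    (ψ : (CGrpSh2.dualSh Scheme.fppfPrecoverage (Ga')).over T ⟶ (Gm').over T) {V : Over X} (g : V ⟶ T)
    (φ : (Ga').over V ⟶ (Gm').over V) : Fn V :=
  gmV (ψ.hom.app (op (Over.mk g)) φ)

theorem val₂_nat {T V W : Over X}
    (ψ : (CGrpSh2.dualSh Scheme.fppfPrecoverage (Ga')).over T ⟶ (Gm').over T) (g : V ⟶ T) (h : W ⟶ V)
    (φ : (Ga').over V ⟶ (Gm').over V) :
    val₂ ψ (h ≫ g) ((CGrpSh2.dualSh Scheme.fppfPrecoverage (Ga')).obj.map h.op φ) = pb h (val₂ ψ g φ) := by
  have hn := ConcreteCategory.congr_hom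
    (ψ.hom.naturality (Over.homMk h rfl : Over.mk (h ≫ g) ⟶ Over.mk g).op) φ
  exact (congrArg gmV hn).trans (gmV_map h _)

theorem val₂_add {T V : Over X}
    (ψ : (CGrpSh2.dualSh Scheme.fppfPrecoverage (Ga')).over T ⟶ (Gm').over T) (g : V ⟶ T)
    (φ φ' : (Ga').over V ⟶ (Gm').over V) : val₂ ψ g (φ + φ') = val₂ ψ g φ * val₂ ψ g φ' :=
  (congrArg gmV ((ψ.hom.app (op (Over.mk g))).hom.map_add φ φ')).trans (gmV_add _ _)

theorem val₂_evalSect {T V : Over X} (s : (Ga').obj.obj (op T)) (g : V ⟶ T)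
    (φ : (Ga').over V ⟶ (Gm').over V) :
    val₂ (HomSh.evalSect J' s) g φ = val φ (𝟙 V) (pb g (gaV s)) := by
  have e : gaMk (pb g (gaV s)) = (Ga').obj.map g.op s := gaV_injective (by rw [gaV_gaMk, gaV_map])
  exact (congrArg (fun x => gmV (φ.hom.app (op (Over.mk (𝟙 V))) x)) e).symm

theorem ext_val₂ {T : Over X} {ψ ψ' : (CGrpSh2.dualSh Scheme.fppfPrecoverage (Ga')).over T ⟶ (Gm').over T}
    (h : ∀ (V : Over X) (g : V ⟶ T) (φ : (Ga').over V ⟶ (Gm').over V), val₂ ψ g φ = val₂ ψ' g φ) : ψ = ψ' :=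
  Sheaf.hom_ext (NatTrans.ext (funext fun W => AddCommGrpCat.ext fun x => gmV_injective (h (unop W).left (unop W).hom x)))

end Groth.Agent.GaBidual25
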