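import Groth.Agent.GaLib.Chars
import Mathlib.Algebra.Polynomial.Taylor

/-!
# Truncated exponential in a ring killed by a prime
-/

set_option autoImplicit false
universe u

open Polynomial

namespace Groth.Agent.GaBidual25

variable (p : ℕ) [hp : Fact p.Prime] {A : Type u} [CommRing A]

/-- The truncated exponential `∑_{j<p} z^j/j!`. -/
noncomputable def et (z : A) : A := ∑ j ∈ Finset.range p, Ring.inverse (j.factorial : A) * z ^ j

/-- The inverse of `(p-1)!`. -/
noncomputable def iq : A := Ring.inverse ((p - 1).factorial : A)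

include hp in
theorem charP_of (hA : (p : A) = 0) [Nontrivial A] : CharP A p :=
  (CharP.charP_iff_prime_eq_zero hp.out).2 hA

theorem isUnit_factorial (hA : (p : A) = 0) {j : ℕ} (hj : j < p) : IsUnit (j.factorial : A) := by
  rcases subsingleton_or_nontrivial A with h | h
  · exact isUnit_of_subsingleton _
  · haveI := charP_of p hA
    exact Groth.Agent.GaLib.isUnit_natCast_factorial p A hj

theorem map_et {B : Type u} [CommRing B] (hA : (p : A) = 0) (f : A →+* B) (z : A) : f (et p z) = et p (f z) := by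
  rw [et, et, map_sum]
  refine Finset.sum_congr rfl fun j hj => ?_
  obtain ⟨u, hu⟩ := isUnit_factorial p hA (Finset.mem_range.1 hj)
  rw [map_mul, map_pow, ← map_natCast f j.factorial, ← hu, Ring.inverse_unit]
  congr 1
  exact (Ring.inverse_unit (Units.map f.toMonoidHom u)).symm

theorem et_zero : et p (0 : A) = 1 := by
  rw [et, Finset.sum_eq_single 0] <;> simp [hp.out.pos] <;> intro b _ hb <;> simp [zero_pow hb]

theorem exists_et_eq (z : A) : ∃ r, et p z = 1 + z * r := by
  obtain ⟨q, rfl⟩ : ∃ q, p = q + 1 := ⟨p - 1, (Nat.sub_add_cancel hp.out.one_le).symm⟩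
  refine ⟨∑ j ∈ Finset.range q, Ring.inverse ((j + 1).factorial : A) * z ^ j, ?_⟩
  rw [et, Finset.sum_range_succ']
  rw [add_comm, Finset.mul_sum]
  simp only [Nat.factorial_zero, Nat.cast_one, Ring.inverse_one, pow_zero, mul_one]
  congr 1
  exact Finset.sum_congr rfl fun j _ => by ring

theorem et_of_sq {z : A} (hz : z ^ 2 = 0) : et p z = 1 + z := by
  obtain ⟨q, rfl⟩ : ∃ q, p = q + 1 + 1 := ⟨p - 2, by have := hp.out.two_le; omega⟩
  rw [et, Finset.sum_range_succ', Finset.sum_range_succ']
  rw [Finset.sum_eq_zero fun j _ => by rw [pow_eq_zero_of_le (by omega : 2 ≤ j + 1 + 1) hz, mul_zero]]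
  simp [Nat.factorial, add_comm]

theorem et_mul (hA : (p : A) = 0) {a : A} (ha : a ^ p = 0) (x y : A) :
    et p (a * (x + y)) = et p (a * x) * et p (a * y) := by
  rcases subsingleton_or_nontrivial A with h | h
  · exact Subsingleton.elim _ _
  haveI := charP_of p hA
  have h1 : ∀ z : A, et p (a * z) = aeval z (Groth.Agent.GaLib.expp p a 0) := fun z => by
    simp only [et, Groth.Agent.GaLib.expp, pow_zero, mul_one, map_sum, map_mul, aeval_C, Algebra.algebraMap_self,
      RingHom.id_apply, map_pow, aeval_X, mul_pow, mul_assoc]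
  have h2 := congrArg (MvPolynomial.aeval ![x, y]) (Groth.Agent.GaLib.expp_add p a ha 0)
  rw [map_mul, ← Polynomial.aeval_algHom_apply, ← Polynomial.aeval_algHom_apply, ← Polynomial.aeval_algHom_apply] at h2
  simp only [map_add, MvPolynomial.aeval_X, Matrix.cons_val_zero, Matrix.cons_val_one] at h2
  rw [h1, h1, h1]
  exact h2

theorem isUnit_et (hA : (p : A) = 0) {a : A} (ha : a ^ p = 0) (x : A) : IsUnit (et p (a * x)) := by
  refine IsUnit.of_mul_eq_one (et p (a * -x)) ?_
  rw [← et_mul p hA ha, add_neg_cancel, mul_zero, et_zero]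

theorem et_add_sq (hA : (p : A) = 0) (v : A) {w : A} (hw : w ^ 2 = 0) :
    et p (v + w) = et p v + (et p v - iq p * v ^ (p - 1)) * w := by
  let E : A[X] := ∑ j ∈ Finset.range p, C (Ring.inverse (j.factorial : A)) * X ^ j
  have hE : ∀ z, et p z = E.eval z := fun z => by simp [et, E, eval_finsetSum]
  rw [hE, Polynomial.eval_add_of_sq_eq_zero _ _ _ hw, ← hE]
  congr 2
  obtain ⟨q, hq⟩ : ∃ q, p = q + 1 := ⟨p - 1, (Nat.sub_add_cancel hp.out.one_le).symm⟩
  simp only [E, map_sum, derivative_C_mul, derivative_X_pow, eval_finsetSum, eval_mul, eval_C, eval_pow, eval_X]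
  rw [et, iq, show p - 1 = q by omega]
  conv_rhs => rw [hq, Finset.sum_range_succ, add_sub_cancel_right]
  conv_lhs => rw [hq, Finset.sum_range_succ']
  simp only [Nat.cast_zero, map_zero, zero_mul, mul_zero, add_zero, Nat.add_sub_cancel]
  refine Finset.sum_congr rfl fun j hj => ?_
  have hj' : j + 1 < p := by rw [hq]; exact Nat.add_lt_add_right (Finset.mem_range.1 hj) 1
  refine (isUnit_factorial p hA hj').mul_left_cancel ?_
  have e1 := Ring.mul_inverse_cancel _ (isUnit_factorial p hA hj')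
  have e2 := Ring.mul_inverse_cancel _ (isUnit_factorial p hA (show j < p by omega))
  rw [Nat.factorial_succ, Nat.cast_mul] at e1 ⊢
  linear_combination (((j + 1 : ℕ) : A) * v ^ j) * e1 - (((j + 1 : ℕ) : A) * v ^ j) * e2

/-- The fundamental relation. -/
theorem et_mul_et (hA : (p : A) = 0) {v w : A} (hv : v ^ p = 0) (hw : w ^ 2 = 0) (x : A) :
    et p (v * x) * et p (w * x) = et p ((v + w) * x) * et p ((iq p * (w * v ^ (p - 1))) * x ^ p) := by
  obtain ⟨q, rfl⟩ : ∃ q, p = q + 1 := ⟨p - 1, (Nat.sub_add_cancel hp.out.one_le).symm⟩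
  have hw2 : w * w = 0 := by rw [← pow_two]; exact hw
  have hw' : (w * x) ^ 2 = 0 := by rw [mul_pow, hw, zero_mul]
  have hc : (iq (q + 1) * (w * v ^ q) * x ^ (q + 1)) ^ 2 = 0 := by
    linear_combination (iq (q + 1) * v ^ q * x ^ (q + 1)) ^ 2 * hw
  simp only [Nat.add_sub_cancel]
  obtain ⟨r, hr⟩ := exists_et_eq (q + 1) (v * x)
  rw [et_of_sq (q + 1) hw', et_of_sq (q + 1) hc, add_mul v w x, et_add_sq (q + 1) hA _ hw', hr, Nat.add_sub_cancel]
  linear_combination (-(iq (q + 1) * w * x ^ (q + 2) * r)) * hv -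
    (iq (q + 1) * v ^ q * x ^ (q + 1) * x * (1 + v * x * r - iq (q + 1) * (v * x) ^ q)) * hw2

theorem add_pow_prime_pow (hA : (p : A) = 0) (x y : A) (n : ℕ) : (x + y) ^ p ^ n = x ^ p ^ n + y ^ p ^ n := by
  rcases subsingleton_or_nontrivial A with h | h
  · exact Subsingleton.elim _ _
  haveI := charP_of p hA
  exact add_pow_char_pow x y p n

end Groth.Agent.GaBidual25
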