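import Groth.Agent.GaBidual25.Exp
import Groth.Agent.GaBidual25.TruncExp
import Groth.Agent.S13357
import Mathlib.Algebra.DualNumber

/-!
# The double dual of the additive group in characteristic `p`
-/

set_option autoImplicit false
set_option backward.isDefEq.respectTransparency.types false
universe u

open CategoryTheory AlgebraicGeometry Opposite MonObj

namespace Groth.Agent.GaBidual25

variable {X : Scheme.{u}} (p : ℕ) [hp : Fact p.Prime] (hP : (p : Γ(X, ⊤)) = 0)

local notation "Ga'" => CGrpSh2.Ga Scheme.fppfPrecoverage X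
local notation "Gm'" => CGrpSh2.Gm Scheme.fppfPrecoverage X
local notation "D'" => CGrpSh2.dualSh Scheme.fppfPrecoverage (CGrpSh2.Ga Scheme.fppfPrecoverage X)
local notation "J'" => QuotSh.J Scheme.fppfPrecoverage X

omit hp in
include hP in
theorem natCast_fn (T : Over X) : (p : Fn T) = 0 := by
  rw [← map_natCast T.hom.appTop.hom p, hP, map_zero]

omit hp in
include hP in
theorem natCast_alg (V : Over X) (S : Type u) [CommRing S] [Algebra (Fn V) S] : (p : S) = 0 := by
  rw [← map_natCast (algebraMap (Fn V) S) p, natCast_fn p hP V, map_zero]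

theorem pb_pow_zero {T V : Over X} (g : V ⟶ T) {a : Fn T} (ha : a ^ p = 0) : pb g a ^ p = 0 := by
  rw [← map_pow, ha, map_zero]

/-- The character `x ↦ exp_p (a x ^ p ^ n)`. -/
noncomputable def chi {T : Over X} (n : ℕ) (a : Fn T) (ha : a ^ p = 0) : (Ga').over T ⟶ (Gm').over T :=
  ⟨{  app := fun W => AddCommGrpCat.ofHom (AddMonoidHom.mk'
        (fun x => gmMk (isUnit_et p (natCast_fn p hP (unop W).left) (pb_pow_zero p (unop W).hom ha)
          (gaV (T := (unop W).left) x ^ p ^ n)).unit)
        (fun x y => gmV_injective (by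
          refine (gmV_gmMk (T := (unop W).left) _).trans (Eq.trans ?_
            ((gmV_add _ _).trans (congrArg₂ (· * ·) (gmV_gmMk (T := (unop W).left) _) (gmV_gmMk (T := (unop W).left) _))).symm)
          exact ((congrArg (fun v : Fn (unop W).left => et p (pb (unop W).hom a * v ^ p ^ n)) (gaV_add (T := (unop W).left) x y)).trans
            (congrArg (fun v => et p (pb (unop W).hom a * v)) (add_pow_prime_pow p (natCast_fn p hP _) _ _ n))).trans
            (et_mul p (natCast_fn p hP _) (pb_pow_zero p _ ha) _ _))))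
      naturality := fun W W' g => AddCommGrpCat.ext fun x => gmV_injective (by
        refine (gmV_gmMk _).trans ?_
        refine Eq.trans ?_ (gmV_map g.unop.left (gmMk (isUnit_et p (natCast_fn p hP (unop W).left)
          (pb_pow_zero p (unop W).hom ha) (gaV (T := (unop W).left) x ^ p ^ n)).unit)).symm
        rw [gmV_gmMk]
        refine Eq.trans ?_ (map_et p (natCast_fn p hP _) (pb g.unop.left) _).symm
        refine congrArg (et p) ?_
        rw [map_mul, map_pow]
        refine congr (congrArg _ ?_) (congrArg (fun v : Fn (unop W').left => v ^ p ^ n) ?_)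
        · change pb (unop W').hom a = ((pb g.unop.left).comp (pb (unop W).hom)) a
          rw [← pb_comp, Over.w g.unop]
        · exact gaV_map g.unop.left x) }⟩

theorem val_chi {T V : Over X} (n : ℕ) (a : Fn T) (ha : a ^ p = 0) (g : V ⟶ T) (r : Fn V) :
    val (chi p hP n a ha) g r = et p (pb g a * r ^ p ^ n) :=
  (gmV_gmMk (T := V) _).trans (congrArg (fun v : Fn V => et p (pb g a * v ^ p ^ n)) (gaV_gaMk (T := V) r))

theorem restrict_chi {T T' : Over X} (f : T' ⟶ T) (n : ℕ) (a : Fn T) (ha : a ^ p = 0) :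
    (D').obj.map f.op (chi p hP n a ha) = chi p hP n (pb f a) (pb_pow_zero p f ha) := by
  refine ext_val fun V g r => ?_
  refine ((val_restrict (chi p hP n a ha) f g r).trans (val_chi p hP n a ha _ r)).trans ?_
  rw [val_chi, pb_comp, RingHom.comp_apply]

theorem chi_congr {T : Over X} (n : ℕ) {a b : Fn T} (h : a = b) (ha : a ^ p = 0) :
    chi p hP n a ha = chi p hP n b (h ▸ ha) := by
  subst h; rfl

variable (V : Over X) [IsAffine V.left]

open Polynomial

include hP in
/-- Over an affine base every character is a finite product of truncated exponentials. -/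
theorem exists_eq_prod (φ : (Ga').over V ⟶ (Gm').over V) :
    ∃ (N : ℕ) (a : ℕ → Fn V) (_ : ∀ n, a n ^ p = 0), ∀ (W : Over X) (g : W ⟶ V) (r : Fn W),
      val φ g r = ∏ n ∈ Finset.range N, et p (pb g (a n) * r ^ p ^ n) := by
  let f : (Fn V)[X] := valS V φ (Fn V)[X] Polynomial.X
  have hf : ∀ (S : Type u) [CommRing S] [Algebra (Fn V) S] (s : S), valS V φ S s = aeval s f := fun S _ _ s => by
    have h := valS_nat V φ (aeval s) Polynomial.X
    rwa [aeval_X] at h
  rcases subsingleton_or_nontrivial (Fn V) with hsub | hnt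
  · refine ⟨0, 0, fun n => Subsingleton.elim _ _, fun W g r => ?_⟩
    haveI : Subsingleton (Fn W) := (pb g).codomain_trivial
    exact Subsingleton.elim _ _
  haveI := charP_of p (natCast_fn p hP V)
  obtain ⟨N, a, ha, hfa⟩ := (Groth.Agent.S13357.result p (Fn V) f).1
    ⟨by rw [← coe_aeval_eq_eval, ← hf, valS_zero], by rw [← hf, ← hf, ← hf, valS_add]⟩
  refine ⟨N, a, ha, fun W g r => ?_⟩
  letI := (pb g).toAlgebra
  obtain ⟨ℓ, hℓ, hℓs⟩ := exists_lift V g
  have h1 : val φ g r = aeval r f := by
    rw [← hf, ← hℓs (valS V φ (Fn W) r), valS, RingEquiv.apply_symm_apply, ← val_nat, hℓ, hℓs]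
  rw [h1, hfa, map_prod]
  refine Finset.prod_congr rfl fun n _ => ?_
  rw [et, map_sum]
  refine Finset.sum_congr rfl fun j hj => ?_
  obtain ⟨u, hu⟩ := isUnit_factorial p (natCast_fn p hP V) (Finset.mem_range.1 hj)
  rw [map_mul, aeval_C, map_pow, aeval_X, map_mul, map_pow, mul_pow, ← pow_mul, mul_comm j]
  change pb g (Ring.inverse _) * pb g (a n) ^ j * _ = _
  rw [← map_natCast (pb g) j.factorial, ← hu, Ring.inverse_unit]
  have e : pb g (u⁻¹ : (Fn V)ˣ) = Ring.inverse (pb g u) := (Ring.inverse_unit (Units.map (pb g).toMonoidHom u)).symm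
  rw [e, _root_.mul_assoc]

/-- The values of a double-dual section on the basic characters. -/
noncomputable def psiP (ψ : (D').over V ⟶ (Gm').over V) (n : ℕ) (S : Type u) [CommRing S] [Algebra (Fn V) S]
    (a : S) (ha : a ^ p = 0) : S :=
  (eS V S).symm (val₂ ψ (tπ V S) (chi p hP n (eS V S a) (by rw [← map_pow, ha, map_zero])))

theorem psiP_nat (ψ : (D').over V ⟶ (Gm').over V) (n : ℕ) {S S' : Type u} [CommRing S] [Algebra (Fn V) S]
    [CommRing S'] [Algebra (Fn V) S'] (f : S →ₐ[Fn V] S') (a : S) (ha : a ^ p = 0) :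
    psiP p hP V ψ n S' (f a) (by rw [← map_pow, ha, map_zero]) = f (psiP p hP V ψ n S a ha) := by
  apply (eS V S').injective
  rw [psiP, RingEquiv.apply_symm_apply, ← pb_tMap V f (psiP p hP V ψ n S a ha), psiP, RingEquiv.apply_symm_apply,
    ← val₂_nat, restrict_chi, tMap_tπ]
  exact congrArg _ (chi_congr p hP n (pb_tMap V f a).symm _)

theorem psiP_zero (ψ : (D').over V ⟶ (Gm').over V) (n : ℕ) (S : Type u) [CommRing S] [Algebra (Fn V) S] :
    psiP p hP V ψ n S 0 (zero_pow hp.out.ne_zero) = 1 := by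
  have h0 : chi p hP n (eS V S 0) (by rw [map_zero, zero_pow hp.out.ne_zero]) = 0 := by
    refine ext_val fun W g r => ?_
    rw [val_chi, map_zero, map_zero, zero_mul, et_zero]
    exact gmV_zero.symm
  rw [psiP, h0]
  exact (congrArg _ ((congrArg gmV (map_zero (ψ.hom.app (op (Over.mk (tπ V S)))).hom)).trans gmV_zero)).trans (map_one _)

theorem psiP_relation (ψ : (D').over V ⟶ (Gm').over V) (n : ℕ) (S : Type u) [CommRing S] [Algebra (Fn V) S]
    (v w : S) (hv : v ^ p = 0) (hw : w ^ 2 = 0) (hvw : (v + w) ^ p = 0)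
    (hw' : w ^ p = 0) (hc : (iq p * (w * v ^ (p - 1))) ^ p = 0) :
    psiP p hP V ψ n S v hv * psiP p hP V ψ n S w hw' =
      psiP p hP V ψ n S (v + w) hvw * psiP p hP V ψ (n + 1) S (iq p * (w * v ^ (p - 1))) hc := by
  rw [psiP, psiP, psiP, psiP, ← map_mul, ← map_mul, ← val₂_add, ← val₂_add]
  refine congrArg _ (congrArg _ (ext_val fun W g r => ?_))
  let h : S →+* Fn W := (pb g).comp (eS V S).toRingHom
  have hiq : h (iq p) = iq p := by
    obtain ⟨u, hu⟩ := isUnit_factorial p (natCast_alg p hP V S) (Nat.sub_lt hp.out.pos one_pos)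
    rw [iq, iq, ← map_natCast h (p - 1).factorial, ← hu, Ring.inverse_unit]
    exact (Ring.inverse_unit (Units.map h.toMonoidHom u)).symm
  rw [val_add_char, val_add_char, val_chi, val_chi, val_chi, val_chi]
  change et p (h v * r ^ p ^ n) * et p (h w * r ^ p ^ n) =
    et p (h (v + w) * r ^ p ^ n) * et p (h (iq p * (w * v ^ (p - 1))) * r ^ p ^ (n + 1))
  rw [map_add, map_mul, map_mul, map_pow, hiq, pow_succ p n, pow_mul]
  exact et_mul_et p (natCast_fn p hP W) (by rw [← map_pow, hv, map_zero]) (by rw [← map_pow, hw, map_zero]) _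

theorem coeff_truncEq {R : Type u} [CommRing R] {f g : R[X]} {n : ℕ}
    (h : AdjoinRoot.mk ((Polynomial.X : R[X]) ^ n) f = AdjoinRoot.mk _ g) (d : ℕ) (hd : d < n) :
    f.coeff d = g.coeff d := by
  rw [AdjoinRoot.mk_eq_mk, Polynomial.X_pow_dvd_iff] at h
  exact sub_eq_zero.1 (by rw [← coeff_sub]; exact h d hd)

include hP in
/-- The values on the basic characters are given by a single function and its Frobenius powers. -/
theorem exists_psiP_eq (ψ : (D').over V ⟶ (Gm').over V) :
    ∃ s : Fn V, ∀ (n : ℕ) (S : Type u) [CommRing S] [Algebra (Fn V) S] (a : S) (ha : a ^ p = 0),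
      psiP p hP V ψ n S a ha = et p (algebraMap (Fn V) S s ^ p ^ n * a) := by
  classical
  let T : Type u := Trunc V p
  let t : T := AdjoinRoot.root _
  have ht : t ^ p = 0 := root_pow V p
  choose G hG using fun n => AdjoinRoot.mk_surjective (psiP p hP V ψ n T t ht)
  have hGa : ∀ (n : ℕ) (S : Type u) [CommRing S] [Algebra (Fn V) S] (a : S) (ha : a ^ p = 0),
      psiP p hP V ψ n S a ha = aeval a (G n) := by
    intro n S _ _ a ha
    let l : T →ₐ[Fn V] S := AdjoinRoot.liftAlgHom _ (Algebra.ofId (Fn V) S) a (by rw [eval₂_pow, eval₂_X, ha])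
    have hl : l t = a := AdjoinRoot.liftAlgHom_root _ _ _ _
    have h := psiP_nat p hP V ψ n l t ht
    simp only [hl] at h
    rw [h, ← hG n]
    rfl
  have hG0 : ∀ n, (G n).coeff 0 = 1 := fun n => by
    rw [Polynomial.coeff_zero_eq_aeval_zero, ← hGa n (Fn V) 0 (zero_pow hp.out.ne_zero), psiP_zero]
  -- the universal relation
  have key : ∀ n, AdjoinRoot.mk ((Polynomial.X : (Fn V)[X]) ^ p) (C ((G n).coeff 1) * G n) =
      AdjoinRoot.mk _ (derivative (G n) + C ((G (n + 1)).coeff 1 * iq p) * Polynomial.X ^ (p - 1)) := by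
    intro n
    let W : Type u := DualNumber T
    let v : W := TrivSqZeroExt.inl t
    let w : W := DualNumber.eps
    have hw : w ^ 2 = 0 := by rw [pow_two]; exact DualNumber.eps_mul_eps
    have hv : v ^ p = 0 := by exact (show (TrivSqZeroExt.inl t : DualNumber T) ^ p = 0 by rw [TrivSqZeroExt.inl_pow, ht, TrivSqZeroExt.inl_zero])
    have hW : (p : W) = 0 := natCast_alg p hP V W
    have hw' : w ^ p = 0 := pow_eq_zero_of_le hp.out.two_le hw
    have hvw : (v + w) ^ p = 0 := by
      have := add_pow_prime_pow p hW v w 1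
      rw [pow_one] at this
      rw [this, hv, hw', add_zero]
    have hc2 : (iq p * (w * v ^ (p - 1))) ^ 2 = 0 := by
      linear_combination (iq p * v ^ (p - 1)) ^ 2 * hw
    have hc : (iq p * (w * v ^ (p - 1))) ^ p = 0 := pow_eq_zero_of_le hp.out.two_le hc2
    have h := psiP_relation p hP V ψ n W v w hv hw hvw hw' hc
    rw [hGa, hGa, hGa, hGa, Polynomial.aeval_add_of_sq_eq_zero _ v w hw] at h
    have hlin : ∀ (m : ℕ) (z : W), z ^ 2 = 0 → aeval z (G m) = 1 + algebraMap (Fn V) W ((G m).coeff 1) * z := by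
      intro m z hz
      have := Polynomial.aeval_add_of_sq_eq_zero (G m) (0 : W) z hz
      rw [zero_add] at this
      rw [this, ← Polynomial.coeff_zero_eq_aeval_zero', ← Polynomial.coeff_zero_eq_aeval_zero', hG0, map_one,
        Polynomial.coeff_derivative]
      simp
    rw [hlin n w hw, hlin (n + 1) _ hc2] at h
    have hv' : ∀ q : (Fn V)[X], aeval v q = TrivSqZeroExt.inl (AdjoinRoot.mk _ q) := fun q => by
      rw [← AdjoinRoot.aeval_eq q]
      exact (Polynomial.aeval_algHom_apply (TrivSqZeroExt.inlAlgHom (Fn V) T T) t q)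
    have hiq : (iq p : W) = TrivSqZeroExt.inl (iq p : T) := by
      obtain ⟨u, hu⟩ := isUnit_factorial p (natCast_alg p hP V T) (Nat.sub_lt hp.out.pos one_pos)
      rw [iq, iq, ← map_natCast (TrivSqZeroExt.inlHom T T) (p - 1).factorial, ← hu, Ring.inverse_unit]
      exact (Ring.inverse_unit (Units.map (TrivSqZeroExt.inlHom T T).toMonoidHom u))
    have hal : ∀ x : Fn V, algebraMap (Fn V) W x =
        TrivSqZeroExt.inl (AdjoinRoot.of ((Polynomial.X : (Fn V)[X]) ^ p) x) := fun x => rfl
    rw [hv', hv', hiq, hal, hal] at h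
    have h2 := congrArg TrivSqZeroExt.snd h
    have hg0 : AdjoinRoot.mk ((Polynomial.X : (Fn V)[X]) ^ p) (G n) * t ^ (p - 1) = t ^ (p - 1) := by
      conv_lhs => rw [← Polynomial.X_mul_divX_add (G n), hG0, map_add, map_mul, map_one, AdjoinRoot.mk_X, map_one]
      rw [add_mul, _root_.one_mul, mul_right_comm, ← pow_succ', Nat.sub_add_cancel hp.out.one_le, ht, zero_mul, zero_add]
    simp [w, v, W, TrivSqZeroExt.inl_pow] at h2
    rw [map_mul, AdjoinRoot.mk_C, map_add, map_mul, map_pow, AdjoinRoot.mk_X, AdjoinRoot.mk_C, map_mul]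
    have hiq' : (AdjoinRoot.of ((Polynomial.X : (Fn V)[X]) ^ p)) (iq p) = (iq p : T) := by
      obtain ⟨u, hu⟩ := isUnit_factorial p (natCast_fn p hP V) (Nat.sub_lt hp.out.pos one_pos)
      rw [iq, iq, ← map_natCast (AdjoinRoot.of ((Polynomial.X : (Fn V)[X]) ^ p)) (p - 1).factorial, ← hu, Ring.inverse_unit]
      exact (Ring.inverse_unit (Units.map (AdjoinRoot.of ((Polynomial.X : (Fn V)[X]) ^ p)).toMonoidHom u)).symm
    rw [hiq']
    linear_combination h2 + ((AdjoinRoot.of ((Polynomial.X : (Fn V)[X]) ^ p)) ((G (n + 1)).coeff 1) * (iq p : T)) * hg0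
  set s : Fn V := (G 0).coeff 1
  have hcoef : ∀ n, ∀ k < p, ((k.factorial : ℕ) : Fn V) * (G n).coeff k = (G n).coeff 1 ^ k := by
    intro n k hk
    induction k with
    | zero => simp [hG0]
    | succ k ih =>
      have h := coeff_truncEq (key n) k (by omega)
      rw [coeff_C_mul, coeff_add, coeff_derivative, coeff_C_mul_X_pow, if_neg (by omega), add_zero] at h
      rw [Nat.factorial_succ, Nat.cast_mul, pow_succ', ← ih (by omega), Nat.cast_succ]
      linear_combination (-((k.factorial : ℕ) : Fn V)) * h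
  have hfrob : ∀ n, (G n).coeff 1 = s ^ p ^ n := by
    intro n
    induction n with
    | zero => simp [s]
    | succ n ih =>
      have h := coeff_truncEq (key n) (p - 1) (Nat.sub_lt hp.out.pos one_pos)
      rw [coeff_C_mul, coeff_add, coeff_derivative, coeff_C_mul_X_pow, if_pos rfl] at h
      have hp0 : ((p - 1 : ℕ) : Fn V) + 1 = 0 := by
        rw [← Nat.cast_succ, Nat.succ_eq_add_one, Nat.sub_add_cancel hp.out.one_le, natCast_fn p hP V]
      rw [hp0, mul_zero, zero_add] at h
      have hu := isUnit_factorial p (natCast_fn p hP V) (Nat.sub_lt hp.out.pos one_pos)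
      have hc := hcoef n (p - 1) (Nat.sub_lt hp.out.pos one_pos)
      have hi : ((p - 1).factorial : Fn V) * iq p = 1 := Ring.mul_inverse_cancel _ hu
      rw [pow_succ, pow_mul, ← ih]
      have e : (G n).coeff 1 ^ p = (G n).coeff 1 * (G n).coeff 1 ^ (p - 1) := by
        rw [← pow_succ', Nat.sub_add_cancel hp.out.one_le]
      rw [e, ← hc]
      linear_combination (-((p - 1).factorial : Fn V)) * h - (G (n + 1)).coeff 1 * hi
  refine ⟨s, fun n S _ _ a ha => ?_⟩
  rw [hGa, aeval_def, eval₂_eq_sum_range' (algebraMap (Fn V) S)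
    (n := max p ((G n).natDegree + 1)) (by omega), ← Finset.sum_range_add_sum_Ico _ (le_max_left p _),
    Finset.sum_eq_zero (s := Finset.Ico _ _) fun j hj => by
      rw [pow_eq_zero_of_le (Finset.mem_Ico.1 hj).1 ha, mul_zero], add_zero, et]
  refine Finset.sum_congr rfl fun j hj => ?_
  have hj' := Finset.mem_range.1 hj
  refine (isUnit_factorial p (natCast_alg p hP V S) hj').mul_left_cancel ?_
  rw [← _root_.mul_assoc, ← _root_.mul_assoc, Ring.mul_inverse_cancel _ (isUnit_factorial p (natCast_alg p hP V S) hj'),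
    ← map_natCast (algebraMap (Fn V) S) j.factorial, ← map_mul, hcoef n j hj', hfrob, map_pow, map_pow, _root_.one_mul, mul_pow]

end Groth.Agent.GaBidual25
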