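import Groth.Agent.GaBidual25.Exp

/-!
# The additive group over the rationals is bidual
-/

set_option autoImplicit false
set_option backward.isDefEq.respectTransparency.types false
universe u

open CategoryTheory AlgebraicGeometry Opposite

namespace Groth.Agent.GaBidual25

variable {X : Scheme.{u}} (hQ : ∀ n : ℕ, 0 < n → IsUnit ((n : Γ(X, ⊤))))

local notation "Ga'" => CGrpSh2.Ga Scheme.fppfPrecoverage X
local notation "Gm'" => CGrpSh2.Gm Scheme.fppfPrecoverage X
local notation "J'" => QuotSh.J Scheme.fppfPrecoverage X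

/-- The affine opens of a scheme over the base. -/
noncomputable def cov (T : Over X) (i : ULift.{u + 1} T.left.affineOpens) : Over X :=
  Over.mk ((i.down : T.left.Opens).ι ≫ T.hom)

/-- The inclusion of an affine open. -/
noncomputable def covι (T : Over X) (i : ULift.{u + 1} T.left.affineOpens) : cov T i ⟶ T :=
  Over.homMk ((i.down : T.left.Opens).ι) rfl

instance (T : Over X) (i : ULift.{u + 1} T.left.affineOpens) : IsAffine (cov T i).left := i.down.2

theorem etale_covι (T : Over X) (i : ULift.{u + 1} T.left.affineOpens) : Etale (covι T i).left :=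
  (inferInstance : Etale ((i.down : T.left.Opens).ι))

theorem cov_exhaustive (T : Over X) (y : T.left) : ∃ k, y ∈ Set.range (covι T k).left := by
  obtain ⟨W, hW, hyW, -⟩ := (T.left.isBasis_affineOpens).exists_subset_of_mem_open
    (Set.mem_univ y) isOpen_univ
  obtain ⟨W', hW', rfl⟩ := hW
  exact ⟨⟨⟨W', hW'⟩⟩, ⟨⟨y, hyW⟩, rfl⟩⟩

include hQ in
theorem eq_of_forall_val (T : Over X) [IsAffine T.left] (a b : Fn T)
    (h : ∀ (V : Over X) (g : V ⟶ T) (φ : (Ga').over V ⟶ (Gm').over V),
      val φ (𝟙 V) (pb g a) = val φ (𝟙 V) (pb g b)) : a = b := by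
  have he2 : (AdjoinRoot.root ((Polynomial.X : Polynomial (Fn T)) ^ 2) : Trunc T 2) ^ 2 = 0 := root_pow T 2
  set e : Trunc T 2 := AdjoinRoot.root _
  have he : IsNilpotent (eS T (Trunc T 2) e) := IsNilpotent.map ⟨2, he2⟩ _
  have h1 := h _ (tπ T (Trunc T 2)) (expChar hQ (eS T (Trunc T 2) e) he)
  rw [val_expChar, val_expChar, pb_id, RingHom.id_apply, pb_tπ, pb_tπ, ← map_mul, ← map_mul,
    ex_of_sq hQ (by rw [← map_pow, mul_pow, he2, zero_mul, map_zero]),
    ex_of_sq hQ (by rw [← map_pow, mul_pow, he2, zero_mul, map_zero])] at h1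
  have h2 := (eS T (Trunc T 2)).injective (add_left_cancel h1)
  rw [AdjoinRoot.algebraMap_eq, ← AdjoinRoot.mk_C, ← AdjoinRoot.mk_C, show e = AdjoinRoot.mk _ Polynomial.X from rfl,
    ← map_mul, ← map_mul, AdjoinRoot.mk_eq_mk, Polynomial.X_pow_dvd_iff] at h2
  simpa [sub_eq_zero] using h2 1 one_lt_two

include hQ in
theorem evalSect_injective (T : Over X) (x y : (Ga').obj.obj (op T))
    (h : HomSh.evalSect J' (M := Gm') x = HomSh.evalSect J' (M := Gm') y) : x = y := by
  refine Groth.Agent.Et18.Fppf.ext_of_etale (Ga') (cov T) (covι T) (etale_covι T) (cov_exhaustive T) x y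
    fun i => gaV_injective ?_
  rw [gaV_map, gaV_map]
  refine eq_of_forall_val hQ _ _ _ fun V g φ => ?_
  rw [← RingHom.comp_apply, ← RingHom.comp_apply, ← pb_comp, ← val₂_evalSect, ← val₂_evalSect, h]

include hQ in
theorem isLocallyInjective :
    Presheaf.IsLocallyInjective (J') (CGrpSh2.toDoubleDual Scheme.fppfPrecoverage (Ga')).hom :=
  Presheaf.isLocallyInjective_of_injective _ _ fun U x y h => evalSect_injective hQ (unop U) x y h

include hQ in
theorem isLocallySurjective :
    Presheaf.IsLocallySurjective (J') (CGrpSh2.toDoubleDual Scheme.fppfPrecoverage (Ga')).hom := ⟨fun {U} ψ => by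
  refine GrothendieckTopology.superset_covering _ ?_
    (Groth.Agent.Et18.Fppf.mem_J_of_etale (cov U) (covι U) (etale_covι U) (cov_exhaustive U))
  rw [Sieve.ofArrows, Sieve.generate_le_iff]
  rintro _ _ ⟨i⟩
  obtain ⟨x, hx⟩ := exists_eq_evalSect hQ (cov U i) ((CGrpSh2.dualSh Scheme.fppfPrecoverage
    (CGrpSh2.dualSh Scheme.fppfPrecoverage (Ga'))).obj.map (covι U i).op ψ)
  exact ⟨x, hx.symm⟩⟩

include hQ in
theorem isIso_toDoubleDual : IsIso (CGrpSh2.toDoubleDual Scheme.fppfPrecoverage (Ga')) :=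
  (Sheaf.isLocallyBijective_iff_isIso _).1 ⟨isLocallyInjective hQ, isLocallySurjective hQ⟩

end Groth.Agent.GaBidual25
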