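import Groth.Agent.GaBidual25.CharPGen
import Groth.Agent.GaBidual25.Iso

/-!
# The additive group in characteristic `p` is bidual
-/

set_option autoImplicit false
set_option backward.isDefEq.respectTransparency.types false
universe u

open CategoryTheory AlgebraicGeometry Opposite

namespace Groth.Agent.GaBidual25

variable {X : Scheme.{u}} (p : ℕ) [hp : Fact p.Prime] (hP : (p : Γ(X, ⊤)) = 0)

local notation "Ga'" => CGrpSh2.Ga Scheme.fppfPrecoverage X
local notation "Gm'" => CGrpSh2.Gm Scheme.fppfPrecoverage X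
local notation "D'" => CGrpSh2.dualSh Scheme.fppfPrecoverage (CGrpSh2.Ga Scheme.fppfPrecoverage X)
local notation "J'" => QuotSh.J Scheme.fppfPrecoverage X

include hP in
theorem exists_eq_evalSectP (V : Over X) [IsAffine V.left] (ψ : (D').over V ⟶ (Gm').over V) :
    ∃ x : (Ga').obj.obj (op V), ψ = HomSh.evalSect J' x := by
  obtain ⟨s, hs⟩ := exists_psiP_eq p hP V ψ
  refine ⟨gaMk s, ext_val₂ fun U g φ => ?_⟩
  rw [val₂_evalSect, gaV_gaMk]
  have hchi : ∀ (U : Over X) (g : U ⟶ V) (n : ℕ) (a : Fn U) (ha : a ^ p = 0),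
      val₂ ψ g (chi p hP n a ha) = val (chi p hP n a ha) (𝟙 U) (pb g s) := by
    intro U g n a ha
    rw [val_chi, pb_id, RingHom.id_apply]
    letI := (pb g).toAlgebra
    obtain ⟨ℓ, hℓ, hℓs⟩ := exists_lift V g
    have h := congrArg (fun x => pb ℓ (eS V (Fn U) x)) (hs n (Fn U) a ha)
    simp only [psiP, RingEquiv.apply_symm_apply] at h
    rw [← val₂_nat, restrict_chi, hℓ] at h
    refine ((congrArg (val₂ ψ g) (chi_congr p hP n (hℓs a) _)).symm.trans h).trans ?_
    rw [hℓs, mul_comm a]
    rfl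
  have haff : ∀ (U : Over X) [IsAffine U.left] (g : U ⟶ V) (φ : (Ga').over U ⟶ (Gm').over U),
      val₂ ψ g φ = val φ (𝟙 U) (pb g s) := by
    intro U _ g φ
    obtain ⟨N, a, ha, hval⟩ := exists_eq_prod p hP U φ
    have hφ : φ = ∑ n ∈ Finset.range N, chi p hP n (a n) (ha n) := by
      refine ext_val fun W h r => ?_
      rw [hval]
      clear hval
      induction N with
      | zero =>
        rw [Finset.prod_range_zero, Finset.sum_range_zero]
        exact gmV_zero.symm
      | succ N ih => rw [Finset.prod_range_succ, Finset.sum_range_succ, val_add_char, ← ih, val_chi]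
    rw [hφ]
    clear hval hφ
    induction N with
    | zero =>
      rw [Finset.sum_range_zero]
      exact ((congrArg gmV (map_zero (ψ.hom.app (op (Over.mk g))).hom)).trans gmV_zero).trans gmV_zero.symm
    | succ N ih => rw [Finset.sum_range_succ, val₂_add, val_add_char, ih, hchi]
  obtain ⟨hu⟩ : Nonempty (IsUnit (val φ (𝟙 U) (pb g s))) := ⟨isUnit_val _ _ _⟩
  have key : ψ.hom.app (op (Over.mk g)) φ = gmMk hu.unit := by
    refine Groth.Agent.Et18.Fppf.ext_of_etale (Gm') (cov U) (covι U) (etale_covι U) (cov_exhaustive U) _ _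
      fun i => gmV_injective ?_
    refine (gmV_map (covι U i) _).trans (Eq.trans ?_ (gmV_map (covι U i) _).symm)
    rw [gmV_gmMk, IsUnit.unit_spec, ← val₂, ← val₂_nat, ← val_nat, Category.comp_id]
    refine (haff (cov U i) (covι U i ≫ g) _).trans ?_
    rw [val_restrict, Category.id_comp, pb_comp, RingHom.comp_apply]
  exact ((congrArg gmV key).trans (gmV_gmMk _)).trans hu.unit_spec

include hP in
theorem eq_of_forall_valP (T : Over X) [IsAffine T.left] (a b : Fn T)
    (h : ∀ (V : Over X) (g : V ⟶ T) (φ : (Ga').over V ⟶ (Gm').over V),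
      val φ (𝟙 V) (pb g a) = val φ (𝟙 V) (pb g b)) : a = b := by
  have he2 : (AdjoinRoot.root ((Polynomial.X : Polynomial (Fn T)) ^ 2) : Trunc T 2) ^ 2 = 0 := root_pow T 2
  set e : Trunc T 2 := AdjoinRoot.root _
  have he : eS T (Trunc T 2) e ^ p = 0 := by
    rw [← map_pow, pow_eq_zero_of_le hp.out.two_le he2, map_zero]
  have h1 := h _ (tπ T (Trunc T 2)) (chi p hP 0 (eS T (Trunc T 2) e) he)
  rw [val_chi, val_chi, pb_id, RingHom.id_apply, pb_tπ, pb_tπ, pow_zero, pow_one, pow_one, ← map_mul, ← map_mul,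
    et_of_sq p (by rw [← map_pow, mul_pow, he2, zero_mul, map_zero]),
    et_of_sq p (by rw [← map_pow, mul_pow, he2, zero_mul, map_zero])] at h1
  have h2 := (eS T (Trunc T 2)).injective (add_left_cancel h1)
  rw [AdjoinRoot.algebraMap_eq, ← AdjoinRoot.mk_C, ← AdjoinRoot.mk_C, show e = AdjoinRoot.mk _ Polynomial.X from rfl,
    ← map_mul, ← map_mul, AdjoinRoot.mk_eq_mk, Polynomial.X_pow_dvd_iff] at h2
  simpa [sub_eq_zero] using h2 1 one_lt_two

include hP in
theorem evalSect_injectiveP (T : Over X) (x y : (Ga').obj.obj (op T))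
    (h : HomSh.evalSect J' (M := Gm') x = HomSh.evalSect J' (M := Gm') y) : x = y := by
  refine Groth.Agent.Et18.Fppf.ext_of_etale (Ga') (cov T) (covι T) (etale_covι T) (cov_exhaustive T) x y
    fun i => gaV_injective ?_
  rw [gaV_map, gaV_map]
  refine eq_of_forall_valP p hP _ _ _ fun V g φ => ?_
  rw [← RingHom.comp_apply, ← RingHom.comp_apply, ← pb_comp, ← val₂_evalSect, ← val₂_evalSect, h]

include hP in
theorem isLocallySurjectiveP :
    Presheaf.IsLocallySurjective (J') (CGrpSh2.toDoubleDual Scheme.fppfPrecoverage (Ga')).hom := ⟨fun {U} ψ => by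
  refine GrothendieckTopology.superset_covering _ ?_
    (Groth.Agent.Et18.Fppf.mem_J_of_etale (cov U) (covι U) (etale_covι U) (cov_exhaustive U))
  rw [Sieve.ofArrows, Sieve.generate_le_iff]
  rintro _ _ ⟨i⟩
  obtain ⟨x, hx⟩ := exists_eq_evalSectP p hP (cov U i) ((CGrpSh2.dualSh Scheme.fppfPrecoverage
    (CGrpSh2.dualSh Scheme.fppfPrecoverage (Ga'))).obj.map (covι U i).op ψ)
  exact ⟨x, hx.symm⟩⟩

include hP in
theorem isIso_toDoubleDualP : IsIso (CGrpSh2.toDoubleDual Scheme.fppfPrecoverage (Ga')) :=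
  (Sheaf.isLocallyBijective_iff_isIso _).1
    ⟨Presheaf.isLocallyInjective_of_injective _ _ fun U x y h => evalSect_injectiveP p hP (unop U) x y h,
      isLocallySurjectiveP p hP⟩

end Groth.Agent.GaBidual25
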