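import Groth.Agent.GaBidual25.Basic
import Groth.Agent.Et18.Fppf.APull
import Mathlib.RingTheory.AdjoinRoot

/-!
# The double dual of the additive group over the rationals
-/

set_option autoImplicit false
set_option backward.isDefEq.respectTransparency.types false
universe u

open CategoryTheory AlgebraicGeometry Opposite MonObj Polynomial

namespace Groth.Agent.GaBidual25

variable {X : Scheme.{u}} (hQ : ∀ n : ℕ, 0 < n → IsUnit ((n : Γ(X, ⊤))))

local notation "Ga'" => CGrpSh2.Ga Scheme.fppfPrecoverage X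
local notation "Gm'" => CGrpSh2.Gm Scheme.fppfPrecoverage X
local notation "D'" => CGrpSh2.dualSh Scheme.fppfPrecoverage (CGrpSh2.Ga Scheme.fppfPrecoverage X)
local notation "J'" => QuotSh.J Scheme.fppfPrecoverage X

include hQ in
theorem isUnit_natCast (T : Over X) (n : ℕ) (hn : 0 < n) : IsUnit (n : Fn T) := by
  simpa using (hQ n hn).map T.hom.appTop.hom

/-- A scheme over a scheme over the rationals has rational functions. -/
noncomputable def algQ (T : Over X) : Algebra ℚ (Fn T) :=
  (IsLocalization.lift (M := nonZeroDivisors ℤ) (S := ℚ) (g := Int.castRingHom (Fn T)) fun z => by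
    have hz : 0 < (z : ℤ).natAbs := Int.natAbs_pos.2 (nonZeroDivisors.coe_ne_zero z)
    have h := isUnit_natCast hQ T _ hz
    rcases Int.natAbs_eq (z : ℤ) with e | e <;> rw [e]
    · simpa using h
    · simpa using h.neg).toAlgebra

/-- The exponential of a nilpotent function. -/
noncomputable def ex {T : Over X} (r : Fn T) : Fn T :=
  letI := algQ hQ T
  IsNilpotent.exp r

theorem ex_zero (T : Over X) : ex hQ (0 : Fn T) = 1 := by
  letI := algQ hQ T
  exact IsNilpotent.exp_zero

theorem ex_add {T : Over X} {a b : Fn T} (ha : IsNilpotent a) (hb : IsNilpotent b) :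
    ex hQ (a + b) = ex hQ a * ex hQ b := by
  letI := algQ hQ T
  exact IsNilpotent.exp_add_of_commute (Commute.all a b) ha hb

theorem isUnit_ex {T : Over X} {a : Fn T} (ha : IsNilpotent a) : IsUnit (ex hQ a) := by
  letI := algQ hQ T
  exact IsNilpotent.isUnit_exp ha

theorem pb_ex {T T' : Over X} (f : T' ⟶ T) {a : Fn T} (ha : IsNilpotent a) :
    pb f (ex hQ a) = ex hQ (pb f a) := by
  letI := algQ hQ T
  letI := algQ hQ T'
  exact IsNilpotent.map_exp ha (pb f)

theorem ex_of_sq {T : Over X} {a : Fn T} (ha : a ^ 2 = 0) : ex hQ a = 1 + a := by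
  letI := algQ hQ T
  unfold ex
  rw [IsNilpotent.exp_eq_sum ha]
  simp [Finset.sum_range_succ]

theorem isNilpotent_pb_mul {T V : Over X} (g : V ⟶ T) {a : Fn T} (ha : IsNilpotent a) (r : Fn V) :
    IsNilpotent (pb g a * r) :=
  (Commute.all _ _).isNilpotent_mul_right (ha.map (pb g))

/-- The character `x ↦ exp (a x)`. -/
noncomputable def expChar {T : Over X} (a : Fn T) (ha : IsNilpotent a) : (Ga').over T ⟶ (Gm').over T :=
  ⟨{  app := fun W => AddCommGrpCat.ofHom (AddMonoidHom.mk'
        (fun x => gmMk (isUnit_ex hQ (isNilpotent_pb_mul (unop W).hom ha (gaV (T := (unop W).left) x))).unit)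
        (fun x y => gmV_injective (by
          refine (gmV_gmMk (T := (unop W).left) _).trans (Eq.trans ?_
            ((gmV_add _ _).trans (congrArg₂ (· * ·) (gmV_gmMk (T := (unop W).left) _) (gmV_gmMk (T := (unop W).left) _))).symm)
          exact ((congrArg (fun v : Fn (unop W).left => ex hQ (pb (unop W).hom a * v)) (gaV_add (T := (unop W).left) x y)).trans
            (congrArg (ex hQ) (mul_add _ _ _))).trans (ex_add hQ (isNilpotent_pb_mul _ ha _) (isNilpotent_pb_mul _ ha _)))))
      naturality := fun W W' g => AddCommGrpCat.ext fun x => gmV_injective (by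
        refine (gmV_gmMk _).trans ?_
        refine Eq.trans ?_ (gmV_map g.unop.left (gmMk (isUnit_ex hQ
          (isNilpotent_pb_mul (unop W).hom ha (gaV (T := (unop W).left) x))).unit)).symm
        rw [gmV_gmMk]
        refine Eq.trans ?_ (pb_ex hQ g.unop.left (isNilpotent_pb_mul _ ha _)).symm
        refine congrArg (ex hQ) ?_
        rw [map_mul]
        refine congr (congrArg _ ?_) ?_
        · change pb (unop W').hom a = ((pb g.unop.left).comp (pb (unop W).hom)) a
          rw [← pb_comp, Over.w g.unop]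
        · exact gaV_map g.unop.left x) }⟩

theorem val_expChar {T V : Over X} (a : Fn T) (ha : IsNilpotent a) (g : V ⟶ T) (r : Fn V) :
    val (expChar hQ a ha) g r = ex hQ (pb g a * r) :=
  (gmV_gmMk (T := V) _).trans (congrArg (fun v : Fn V => ex hQ (pb g a * v)) (gaV_gaMk (T := V) r))

theorem restrict_expChar {T T' : Over X} (f : T' ⟶ T) (a : Fn T) (ha : IsNilpotent a) :
    (D').obj.map f.op (expChar hQ a ha) = expChar hQ (pb f a) (ha.map _) := by
  refine ext_val fun V g r => ?_
  refine ((val_restrict (expChar hQ a ha) f g r).trans (val_expChar hQ a ha _ r)).trans ?_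
  rw [val_expChar, pb_comp, RingHom.comp_apply]

theorem val_add_char {T V : Over X} (φ φ' : (Ga').over T ⟶ (Gm').over T) (g : V ⟶ T) (r : Fn V) :
    val (φ + φ') g r = val φ g r * val φ' g r :=
  gmV_add (φ.hom.app (op (Over.mk g)) (gaMk r)) (φ'.hom.app (op (Over.mk g)) (gaMk r))

theorem expChar_add {T : Over X} (a b : Fn T) (ha : IsNilpotent a) (hb : IsNilpotent b) :
    expChar hQ (a + b) ((Commute.all a b).isNilpotent_add ha hb) = expChar hQ a ha + expChar hQ b hb := by
  refine ext_val fun V g r => ?_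
  rw [val_add_char, val_expChar, val_expChar, val_expChar, map_add, add_mul,
    ex_add hQ (isNilpotent_pb_mul _ ha _) (isNilpotent_pb_mul _ hb _)]

/-! ### Affine test objects -/

variable (V : Over X) [IsAffine V.left]

/-- The test object attached to an algebra over the functions on an affine base. -/
noncomputable def tObj (S : Type u) [CommRing S] [Algebra (Fn V) S] : Over X :=
  Over.mk (Spec.map (CommRingCat.ofHom (algebraMap (Fn V) S)) ≫ V.left.isoSpec.inv ≫ V.hom)

/-- The structure map of a test object. -/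
noncomputable def tπ (S : Type u) [CommRing S] [Algebra (Fn V) S] : tObj V S ⟶ V :=
  Over.homMk (Spec.map (CommRingCat.ofHom (algebraMap (Fn V) S)) ≫ V.left.isoSpec.inv) (Category.assoc _ _ _)

/-- The functions of a test object. -/
noncomputable def eS (S : Type u) [CommRing S] [Algebra (Fn V) S] : S ≃+* Fn (tObj V S) :=
  (Scheme.ΓSpecIso (CommRingCat.of S)).symm.commRingCatIsoToRingEquiv

theorem appTop_specMap {A B : CommRingCat.{u}} (f : A ⟶ B) (x : A) :
    (Spec.map f).appTop ((Scheme.ΓSpecIso A).inv x) = (Scheme.ΓSpecIso B).inv (f x) :=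
  (ConcreteCategory.congr_hom (Scheme.ΓSpecIso_inv_naturality f) x).symm

theorem appTop_isoSpec_inv (W : Scheme.{u}) [IsAffine W] (x : Γ(W, ⊤)) :
    W.isoSpec.inv.appTop x = (Scheme.ΓSpecIso Γ(W, ⊤)).inv x := by
  have h : W.isoSpec.inv.appTop ≫ (Scheme.ΓSpecIso Γ(W, ⊤)).hom = 𝟙 _ := by
    rw [← Scheme.toSpecΓ_appTop, ← Scheme.Hom.comp_appTop]
    change (W.isoSpec.hom ≫ W.isoSpec.inv).appTop = _
    rw [Iso.hom_inv_id, Scheme.Hom.id_appTop]
  rw [← Iso.eq_comp_inv, Category.id_comp] at h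
  rw [h]

theorem pb_tπ (S : Type u) [CommRing S] [Algebra (Fn V) S] (x : Fn V) :
    pb (tπ V S) x = eS V S (algebraMap (Fn V) S x) := by
  change (Spec.map (CommRingCat.ofHom (algebraMap (Fn V) S)) ≫ V.left.isoSpec.inv).appTop x = _
  rw [Scheme.Hom.comp_appTop, CommRingCat.comp_apply, appTop_isoSpec_inv]
  exact appTop_specMap (CommRingCat.ofHom (algebraMap (Fn V) S)) x

/-- Functoriality of the test objects. -/
noncomputable def tMap {S S' : Type u} [CommRing S] [Algebra (Fn V) S] [CommRing S'] [Algebra (Fn V) S']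
    (f : S →ₐ[Fn V] S') : tObj V S' ⟶ tObj V S :=
  Over.homMk (Spec.map (CommRingCat.ofHom f.toRingHom)) (by
    change Spec.map _ ≫ Spec.map _ ≫ _ = Spec.map _ ≫ _
    rw [← Spec.map_comp_assoc, ← CommRingCat.ofHom_comp, AlgHom.toRingHom_eq_coe, f.comp_algebraMap])

theorem tMap_tπ {S S' : Type u} [CommRing S] [Algebra (Fn V) S] [CommRing S'] [Algebra (Fn V) S']
    (f : S →ₐ[Fn V] S') : tMap V f ≫ tπ V S = tπ V S' := by
  refine Over.OverMorphism.ext ?_
  change Spec.map _ ≫ Spec.map _ ≫ _ = Spec.map _ ≫ _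
  rw [← Spec.map_comp_assoc, ← CommRingCat.ofHom_comp, AlgHom.toRingHom_eq_coe, f.comp_algebraMap]

theorem pb_tMap {S S' : Type u} [CommRing S] [Algebra (Fn V) S] [CommRing S'] [Algebra (Fn V) S']
    (f : S →ₐ[Fn V] S') (s : S) : pb (tMap V f) (eS V S s) = eS V S' (f s) :=
  appTop_specMap (CommRingCat.ofHom f.toRingHom) s

theorem exists_lift {W : Over X} (g : W ⟶ V) :
    letI := (pb g).toAlgebra
    ∃ ℓ : W ⟶ tObj V (Fn W), ℓ ≫ tπ V (Fn W) = g ∧ ∀ s, pb ℓ (eS V (Fn W) s) = s := by
  letI := (pb g).toAlgebra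
  have h : W.left.toSpecΓ ≫ Spec.map (CommRingCat.ofHom (algebraMap (Fn V) (Fn W))) ≫ V.left.isoSpec.inv = g.left := by
    change W.left.toSpecΓ ≫ Spec.map g.left.appTop ≫ V.left.isoSpec.inv = g.left
    rw [← Scheme.toSpecΓ_naturality_assoc]
    change g.left ≫ V.left.isoSpec.hom ≫ V.left.isoSpec.inv = g.left
    rw [Iso.hom_inv_id, Category.comp_id]
  refine ⟨Over.homMk W.left.toSpecΓ ?_, Over.OverMorphism.ext h, fun s => ?_⟩
  · change W.left.toSpecΓ ≫ Spec.map _ ≫ _ ≫ _ = _
    rw [reassoc_of% h, Over.w g]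
  · change W.left.toSpecΓ.appTop ((Scheme.ΓSpecIso (Fn W)).inv s) = s
    rw [Scheme.toSpecΓ_appTop]
    exact ConcreteCategory.congr_hom (Scheme.ΓSpecIso (Fn W)).inv_hom_id s

/-! ### Characters over an affine base -/

/-- The values of a character on the algebras over the base. -/
noncomputable def valS (φ : (Ga').over V ⟶ (Gm').over V) (S : Type u) [CommRing S] [Algebra (Fn V) S] (s : S) : S :=
  (eS V S).symm (val φ (tπ V S) (eS V S s))

theorem valS_nat (φ : (Ga').over V ⟶ (Gm').over V) {S S' : Type u} [CommRing S] [Algebra (Fn V) S]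
    [CommRing S'] [Algebra (Fn V) S'] (f : S →ₐ[Fn V] S') (s : S) :
    valS V φ S' (f s) = f (valS V φ S s) := by
  apply (eS V S').injective
  rw [valS, RingEquiv.apply_symm_apply, ← pb_tMap V f (valS V φ S s), valS, RingEquiv.apply_symm_apply,
    ← val_nat, pb_tMap, tMap_tπ]

theorem valS_add (φ : (Ga').over V ⟶ (Gm').over V) (S : Type u) [CommRing S] [Algebra (Fn V) S] (s t : S) :
    valS V φ S (s + t) = valS V φ S s * valS V φ S t := by
  simp [valS, val_add]

theorem valS_zero (φ : (Ga').over V ⟶ (Gm').over V) (S : Type u) [CommRing S] [Algebra (Fn V) S] :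
    valS V φ S 0 = 1 := by
  simp [valS, val_zero]

include hQ in
/-- Over an affine base every character of the additive group is exponential. -/
theorem exists_eq_expChar (φ : (Ga').over V ⟶ (Gm').over V) : ∃ a ha, φ = expChar hQ a ha := by
  letI := algQ hQ V
  let f : (Fn V)[X] := valS V φ (Fn V)[X] Polynomial.X
  have hf : ∀ (S : Type u) [CommRing S] [Algebra (Fn V) S] (s : S), valS V φ S s = aeval s f := fun S _ _ s => by
    have h := valS_nat V φ (aeval s) Polynomial.X
    rwa [aeval_X] at h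
  obtain ⟨a, ha, hfa⟩ := (Groth.Agent.S13356.result (Fn V) f).1
    ⟨by rw [← coe_aeval_eq_eval, ← hf, valS_zero], by rw [← hf, ← hf, ← hf, valS_add]⟩
  refine ⟨a, ha, ext_val fun W g r => ?_⟩
  rw [val_expChar]
  letI := (pb g).toAlgebra
  letI := algQ hQ W
  obtain ⟨ℓ, hℓ, hℓs⟩ := exists_lift V g
  have h1 : val φ g r = aeval r f := by
    rw [← hf, ← hℓs (valS V φ (Fn W) r), valS, RingEquiv.apply_symm_apply, ← val_nat, hℓ, hℓs]
  rw [h1]
  obtain ⟨m, hm⟩ := isNilpotent_pb_mul g ha r
  have hN : (pb g a * r) ^ (max m (f.natDegree + 1)) = 0 := pow_eq_zero_of_le (le_max_left _ _) hm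
  rw [aeval_eq_sum_range' (n := max m (f.natDegree + 1)) (by omega)]
  refine Eq.trans ?_ (IsNilpotent.exp_eq_sum hN).symm
  refine Finset.sum_congr rfl fun k _ => ?_
  have hc : f.coeff k = a ^ k * algebraMap ℚ (Fn V) (1 / (k.factorial : ℚ)) := by
    rw [← Polynomial.coeff_coe, hfa, PowerSeries.coeff_rescale, PowerSeries.coeff_exp]
  rw [hc, Algebra.smul_def, Algebra.smul_def]
  change pb g (a ^ k * algebraMap ℚ (Fn V) (1 / (k.factorial : ℚ))) * r ^ k = _
  rw [map_mul, map_pow, (pb g).map_rat_algebraMap, mul_pow, one_div]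
  ring

/-! ### The double dual -/

/-- The values of a double-dual section on exponential characters. -/
noncomputable def psiS (ψ : (D').over V ⟶ (Gm').over V) (S : Type u) [CommRing S] [Algebra (Fn V) S] (a : S) (ha : IsNilpotent a) : S :=
  (eS V S).symm (val₂ ψ (tπ V S) (expChar hQ (eS V S a) (ha.map _)))

theorem expChar_congr {T : Over X} {a b : Fn T} (h : a = b) (ha : IsNilpotent a) :
    expChar hQ a ha = expChar hQ b (h ▸ ha) := by
  subst h; rfl

theorem psiS_nat (ψ : (D').over V ⟶ (Gm').over V) {S S' : Type u} [CommRing S] [Algebra (Fn V) S] [CommRing S'] [Algebra (Fn V) S']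
    (f : S →ₐ[Fn V] S') (a : S) (ha : IsNilpotent a) :
    psiS hQ V ψ S' (f a) (ha.map f) = f (psiS hQ V ψ S a ha) := by
  apply (eS V S').injective
  rw [psiS, RingEquiv.apply_symm_apply, ← pb_tMap V f (psiS hQ V ψ S a ha), psiS, RingEquiv.apply_symm_apply,
    ← val₂_nat, restrict_expChar, tMap_tπ]
  exact congrArg _ (expChar_congr hQ (pb_tMap V f a).symm _)

theorem psiS_add (ψ : (D').over V ⟶ (Gm').over V) (S : Type u) [CommRing S] [Algebra (Fn V) S] (a b : S) (ha : IsNilpotent a) (hb : IsNilpotent b) :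
    psiS hQ V ψ S (a + b) ((Commute.all a b).isNilpotent_add ha hb) =
      psiS hQ V ψ S a ha * psiS hQ V ψ S b hb := by
  rw [psiS, psiS, psiS, ← map_mul, ← val₂_add, ← expChar_add]
  exact congrArg _ (congrArg _ (expChar_congr hQ (map_add (eS V S) a b) _))

/-- The quotient of a double-dual section by an evaluation. -/
noncomputable def defect (ψ : (D').over V ⟶ (Gm').over V) (s : Fn V) (S : Type u) [CommRing S] [Algebra (Fn V) S] (a : S) (ha : IsNilpotent a) : S :=
  psiS hQ V ψ S a ha * (eS V S).symm (ex hQ (eS V S (-(a * algebraMap (Fn V) S s))))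

theorem isNilpotent_aux (s : Fn V) {S : Type u} [CommRing S] [Algebra (Fn V) S] {a : S} (ha : IsNilpotent a) :
    IsNilpotent (eS V S (-(a * algebraMap (Fn V) S s))) :=
  ((Commute.all _ _).isNilpotent_mul_right ha).neg.map _

theorem defect_nat (ψ : (D').over V ⟶ (Gm').over V) (s : Fn V) {S S' : Type u} [CommRing S] [Algebra (Fn V) S] [CommRing S'] [Algebra (Fn V) S']
    (f : S →ₐ[Fn V] S') (a : S) (ha : IsNilpotent a) :
    defect hQ V ψ s S' (f a) (ha.map f) = f (defect hQ V ψ s S a ha) := by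
  rw [defect, defect, psiS_nat hQ V ψ f a ha, map_mul]
  congr 1
  apply (eS V S').injective
  rw [RingEquiv.apply_symm_apply, ← pb_tMap V f ((eS V S).symm _), RingEquiv.apply_symm_apply,
    pb_ex hQ _ (isNilpotent_aux V s ha), pb_tMap]
  simp

theorem defect_add (ψ : (D').over V ⟶ (Gm').over V) (s : Fn V) (S : Type u) [CommRing S] [Algebra (Fn V) S] (a b : S) (ha : IsNilpotent a)
    (hb : IsNilpotent b) :
    defect hQ V ψ s S (a + b) ((Commute.all a b).isNilpotent_add ha hb) =
      defect hQ V ψ s S a ha * defect hQ V ψ s S b hb := by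
  rw [defect, psiS_add hQ V ψ S a b ha hb, add_mul, neg_add, map_add, ex_add hQ (isNilpotent_aux V s ha) (isNilpotent_aux V s hb),
    map_mul, defect, defect]
  ring

/-- The truncated polynomial ring. -/
abbrev Trunc (n : ℕ) : Type u := AdjoinRoot ((Polynomial.X : (Fn V)[X]) ^ n)

theorem root_pow (n : ℕ) : (AdjoinRoot.root ((Polynomial.X : (Fn V)[X]) ^ n) : Trunc V n) ^ n = 0 := by
  rw [← AdjoinRoot.mk_X, ← map_pow, AdjoinRoot.mk_self]

theorem defect_eq_one_of_sq (ψ : (D').over V ⟶ (Gm').over V) (s : Fn V) (hs : defect hQ V ψ s (Trunc V 2) (AdjoinRoot.root _) ⟨2, root_pow V 2⟩ = 1) :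
    ∀ (n : ℕ) (S : Type u) [CommRing S] [Algebra (Fn V) S] (a : S) (ha : a ^ n = 0),
      defect hQ V ψ s S a ⟨n, ha⟩ = 1 := by
  intro n
  induction n using Nat.strong_induction_on with
  | _ n ih =>
    intro S _ _ a ha
    let lift : Trunc V n →ₐ[Fn V] S := AdjoinRoot.liftAlgHom _ (Algebra.ofId (Fn V) _) a (by rw [eval₂_pow, eval₂_X, ha])
    rcases Nat.lt_or_ge n 3 with hn | hn
    · have ha2 : a ^ 2 = 0 := pow_eq_zero_of_le (by omega) ha
      let l2 : Trunc V 2 →ₐ[Fn V] S := AdjoinRoot.liftAlgHom _ (Algebra.ofId (Fn V) _) a (by rw [eval₂_pow, eval₂_X, ha2])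
      have e := defect_nat hQ V ψ s l2 (AdjoinRoot.root _) ⟨2, root_pow V 2⟩
      rw [hs, map_one] at e
      have he : l2 (AdjoinRoot.root _) = a := AdjoinRoot.liftAlgHom_root _ _ _ _
      simpa only [he] using e
    · set t : Trunc V n := AdjoinRoot.root _ with ht
      have key : defect hQ V ψ s (Trunc V n) t ⟨n, root_pow V n⟩ = 1 := by
        let q : Trunc V n →ₐ[Fn V] Trunc V (n - 1) := AdjoinRoot.liftAlgHom _ (Algebra.ofId (Fn V) _) (AdjoinRoot.root _)
          (by rw [eval₂_pow, eval₂_X]; exact pow_eq_zero_of_le (by omega) (root_pow V (n - 1)))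
        have hq : q t = AdjoinRoot.root _ := AdjoinRoot.liftAlgHom_root _ _ _ _
        obtain ⟨p, hp⟩ := AdjoinRoot.mk_surjective (defect hQ V ψ s (Trunc V n) t ⟨n, root_pow V n⟩)
        have e1 : q (AdjoinRoot.mk _ p) = 1 := by
          rw [hp, ← defect_nat hQ V ψ s q]
          simpa only [hq] using ih (n - 1) (by omega) (Trunc V (n - 1)) (AdjoinRoot.root _) (root_pow V (n - 1))
        change aeval _ p = 1 at e1
        rw [AdjoinRoot.aeval_eq, ← map_one (AdjoinRoot.mk _), AdjoinRoot.mk_eq_mk] at e1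
        obtain ⟨c, hc⟩ := e1
        have hmk : defect hQ V ψ s (Trunc V n) t ⟨n, root_pow V n⟩ =
            1 + algebraMap (Fn V) (Trunc V n) (c.coeff 0) * t ^ (n - 1) := by
          rw [← hp]
          have hp' : p = 1 + Polynomial.X ^ (n - 1) * (Polynomial.X * c.divX + C (c.coeff 0)) := by
            linear_combination hc + Polynomial.X ^ (n - 1) * (Polynomial.X_mul_divX_add c).symm
          rw [hp', ht, AdjoinRoot.algebraMap_eq, ← AdjoinRoot.mk_C, ← AdjoinRoot.mk_X]
          simp only [← map_pow, ← map_mul, ← map_one (AdjoinRoot.mk ((Polynomial.X : (Fn V)[X]) ^ n)), ← map_add]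
          rw [AdjoinRoot.mk_eq_mk]
          refine ⟨c.divX, ?_⟩
          have : (Polynomial.X : (Fn V)[X]) ^ n = Polynomial.X ^ (n - 1) * Polynomial.X := by rw [← pow_succ]; congr 1; omega
          rw [this]; ring
        let d : Trunc V n →ₐ[Fn V] Trunc V n := AdjoinRoot.liftAlgHom _ (Algebra.ofId (Fn V) _) (t + t)
          (by rw [eval₂_pow, eval₂_X, ← two_mul, mul_pow, root_pow, mul_zero])
        have hd : d t = t + t := AdjoinRoot.liftAlgHom_root _ _ _ _
        have e2 := defect_nat hQ V ψ s d t ⟨n, root_pow V n⟩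
        simp only [hd] at e2
        rw [defect_add hQ V ψ s _ t t ⟨n, root_pow V n⟩ ⟨n, root_pow V n⟩, hmk] at e2
        simp only [map_add, map_one, map_mul, map_pow, AlgHom.commutes, hd] at e2
        have hsq : t ^ (n - 1) * t ^ (n - 1) = 0 := by
          rw [← pow_add]; exact pow_eq_zero_of_le (by omega) (root_pow V n)
        rw [← two_mul t, mul_pow] at e2
        have e3 : (AdjoinRoot.mk ((Polynomial.X : (Fn V)[X]) ^ n))
            (C (c.coeff 0 * (2 ^ (n - 1) - 2 : Fn V)) * Polynomial.X ^ (n - 1)) = 0 := by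
          rw [map_mul, AdjoinRoot.mk_C, map_pow, AdjoinRoot.mk_X, ← AdjoinRoot.algebraMap_eq, map_mul, map_sub,
            map_pow, map_ofNat]
          linear_combination (-1 : Trunc V n) * e2 +
            (algebraMap (Fn V) (Trunc V n) (c.coeff 0)) ^ 2 * hsq
        rw [AdjoinRoot.mk_eq_zero, Polynomial.X_pow_dvd_iff] at e3
        have e4 := e3 (n - 1) (by omega)
        rw [coeff_C_mul_X_pow, if_pos rfl] at e4
        have h2 : 2 < 2 ^ (n - 1) := lt_of_lt_of_le (by norm_num) (Nat.pow_le_pow_right (by norm_num : 0 < 2) (by omega : 2 ≤ n - 1))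
        have hu : IsUnit ((2 : Fn V) ^ (n - 1) - 2) := by
          have := isUnit_natCast hQ V (2 ^ (n - 1) - 2) (by omega)
          rwa [Nat.cast_sub h2.le, Nat.cast_pow, Nat.cast_ofNat] at this
        rw [hmk, hu.mul_left_eq_zero.1 e4, map_zero, zero_mul, add_zero]
      have e := defect_nat hQ V ψ s lift t ⟨n, root_pow V n⟩
      rw [key, map_one] at e
      have he : lift t = a := AdjoinRoot.liftAlgHom_root _ _ _ _
      simpa only [he] using e

include hQ in
/-- Over an affine base a double-dual section is an evaluation. -/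
theorem exists_eq_evalSect (ψ : (D').over V ⟶ (Gm').over V) : ∃ x : (Ga').obj.obj (op V), ψ = HomSh.evalSect J' x := by
  set e : Trunc V 2 := AdjoinRoot.root _ with he
  have he2 : e ^ 2 = 0 := root_pow V 2
  obtain ⟨p, hp⟩ := AdjoinRoot.mk_surjective (psiS hQ V ψ (Trunc V 2) e ⟨2, he2⟩)
  -- the constant term is one
  have h0 : p.coeff 0 = 1 := by
    let q : Trunc V 2 →ₐ[Fn V] Fn V := AdjoinRoot.liftAlgHom _ (Algebra.ofId (Fn V) _) (0 : Fn V) (by rw [eval₂_pow, eval₂_X, zero_pow two_ne_zero])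
    have hq : q e = 0 := AdjoinRoot.liftAlgHom_root _ _ _ _
    have h1 := psiS_nat hQ V ψ q e ⟨2, he2⟩
    simp only [hq] at h1
    rw [← hp] at h1
    change _ = aeval (0 : Fn V) p at h1
    rw [← Polynomial.coeff_zero_eq_aeval_zero] at h1
    have h2 : val₂ ψ (tπ V (Fn V)) (expChar hQ (0 : Fn (tObj V (Fn V))) IsNilpotent.zero) = 1 := by
      have h3 := val₂_add ψ (tπ V (Fn V)) (expChar hQ (0 : Fn (tObj V (Fn V))) IsNilpotent.zero)
        (expChar hQ 0 IsNilpotent.zero)
      rw [← expChar_add, expChar_congr hQ (add_zero (0 : Fn (tObj V (Fn V))))] at h3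
      exact ((isUnit_gmV _).mul_left_cancel ((_root_.mul_one _).trans h3)).symm
    have h4 : psiS hQ V ψ (Fn V) 0 IsNilpotent.zero = 1 := by
      rw [psiS, expChar_congr hQ (map_zero (eS V (Fn V))), h2, map_one]
    exact h1.symm.trans h4
  set s : Fn V := p.coeff 1
  have hpe : psiS hQ V ψ (Trunc V 2) e ⟨2, he2⟩ = 1 + e * algebraMap (Fn V) (Trunc V 2) s := by
    rw [← hp, he, AdjoinRoot.algebraMap_eq, ← AdjoinRoot.mk_C, ← AdjoinRoot.mk_X, ← map_mul,
      ← map_one (AdjoinRoot.mk _), ← map_add, AdjoinRoot.mk_eq_mk, Polynomial.X_pow_dvd_iff]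
    intro d hd
    interval_cases d <;> simp [h0, s, coeff_one]
  have hs : defect hQ V ψ s (Trunc V 2) e ⟨2, he2⟩ = 1 := by
    rw [defect, hpe, ex_of_sq hQ (by rw [← map_pow, neg_sq, mul_pow, he2, zero_mul, map_zero]), map_add, map_one,
      RingEquiv.symm_apply_apply]
    linear_combination (-(algebraMap (Fn V) (Trunc V 2) s) ^ 2) * he2
  refine ⟨gaMk s, ext_val₂ fun U g φ => ?_⟩
  rw [val₂_evalSect, gaV_gaMk]
  -- on affine objects
  have haff : ∀ (U : Over X) [IsAffine U.left] (g : U ⟶ V) (φ : (Ga').over U ⟶ (Gm').over U),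
      val₂ ψ g φ = val φ (𝟙 U) (pb g s) := by
    intro U _ g φ
    obtain ⟨a, ha, rfl⟩ := exists_eq_expChar hQ U φ
    rw [val_expChar, pb_id, RingHom.id_apply]
    letI := (pb g).toAlgebra
    obtain ⟨ℓ, hℓ, hℓs⟩ := exists_lift V g
    obtain ⟨m, hm⟩ := ha
    have h1 := defect_eq_one_of_sq hQ V ψ s hs m (Fn U) a hm
    have hpsi : psiS hQ V ψ (Fn U) a ⟨m, hm⟩ = (eS V (Fn U)).symm (ex hQ (eS V (Fn U) (a * pb g s))) := by
      have hn : IsNilpotent (eS V (Fn U) (a * pb g s)) := ((Commute.all _ _).isNilpotent_mul_right ⟨m, hm⟩).map _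
      have h2 := congrArg (eS V (Fn U)).symm (ex_add hQ hn hn.neg)
      rw [add_neg_cancel, ex_zero, map_one, map_mul, ← map_neg] at h2
      calc _ = psiS hQ V ψ (Fn U) a ⟨m, hm⟩ * 1 := (_root_.mul_one _).symm
        _ = _ := by rw [h2, mul_left_comm]; exact (congrArg _ h1).trans (_root_.mul_one _)
    have h3 := congrArg (fun x => pb ℓ (eS V (Fn U) x)) hpsi
    simp only [psiS, RingEquiv.apply_symm_apply] at h3
    rw [← val₂_nat, restrict_expChar, hℓ, pb_ex hQ _ (((Commute.all _ _).isNilpotent_mul_right ⟨m, hm⟩).map _)] at h3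
    exact (congrArg (val₂ ψ g) (expChar_congr hQ (hℓs a) _)).symm.trans (h3.trans (congrArg (ex hQ) (hℓs _)))
  -- locality
  haveI : ∀ i : ULift.{u + 1} U.left.affineOpens, Etale ((i.down : U.left.Opens).ι) := fun i => inferInstance
  let R : ULift.{u + 1} U.left.affineOpens → Over X := fun i => Over.mk ((i.down : U.left.Opens).ι ≫ U.hom)
  let j : ∀ i, R i ⟶ U := fun i => Over.homMk ((i.down : U.left.Opens).ι) rfl
  obtain ⟨hu⟩ : Nonempty (IsUnit (val φ (𝟙 U) (pb g s))) := ⟨isUnit_val _ _ _⟩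
  have key : ψ.hom.app (op (Over.mk g)) φ = gmMk hu.unit := by
    refine Groth.Agent.Et18.Fppf.ext_of_etale (Gm') R j (fun i => this i) (fun y => ?_) _ _ fun i => gmV_injective ?_
    · obtain ⟨W, hW, hyW, -⟩ := (U.left.isBasis_affineOpens).exists_subset_of_mem_open
        (Set.mem_univ y) isOpen_univ
      obtain ⟨W', hW', rfl⟩ := hW
      exact ⟨⟨⟨W', hW'⟩⟩, ⟨⟨y, hyW⟩, rfl⟩⟩
    · haveI : IsAffine (R i).left := i.down.2
      refine (gmV_map (j i) _).trans (Eq.trans ?_ (gmV_map (j i) _).symm)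
      rw [gmV_gmMk, IsUnit.unit_spec, ← val₂, ← val₂_nat, ← val_nat, Category.comp_id]
      refine (haff (R i) (j i ≫ g) _).trans ?_
      rw [val_restrict, Category.id_comp, pb_comp, RingHom.comp_apply]
  exact ((congrArg gmV key).trans (gmV_gmMk _)).trans hu.unit_spec

end Groth.Agent.GaBidual25
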